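import Cfsg.Agent.Lib.JordanForms.Forms
import Cfsg.Agent.Lib.MaxSub.ElusiveSpTwo
import Cfsg.Prelude.Def_Classical

/-!
Similarity to matrices preserving an alternating, symmetric or quadratic form.
-/

set_option autoImplicit false

namespace CfsgLib.JordanForms

open Matrix

variable {F : Type*} [Field F] {t : ℕ} (d : Fin t → ℕ)

theorem alt_of_skew {ι : Type*} [Fintype ι] (B : Matrix ι ι F) (hd0 : ∀ x, B x x = 0)
    (hB : Bᵀ = (-1 : F) • B) (v : ι → F) : v ⬝ᵥ (B *ᵥ v) = 0 := by
  classical
  have hswap : ∀ x y, B y x = - B x y := fun x y => by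
    have := congrFun (congrFun hB x) y
    simpa using this
  simp only [dotProduct, mulVec, Finset.mul_sum]
  rw [← Finset.sum_product']
  refine Finset.sum_involution (fun p _ => p.swap) ?_ ?_ (fun p _ => Finset.mem_univ _)
    (fun p _ => Prod.swap_swap p)
  · rintro ⟨a, b⟩ _
    simp only [Prod.swap_prod_mk, hswap a b]
    ring
  · rintro ⟨a, b⟩ _ h e
    simp only [Prod.swap_prod_mk, Prod.mk.injEq] at e
    obtain rfl := e.1
    exact h (by simp [hd0])

theorem eq_zero_of_rank {ι : Type*} [Fintype ι] {M : Matrix ι ι F} (h : M.rank = 0) : M = 0 := by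
  classical
  rw [Matrix.rank, Submodule.finrank_eq_zero, LinearMap.range_eq_bot] at h
  ext a b
  have := congrFun (LinearMap.congr_fun h (Pi.single b 1)) a
  simpa [mulVec_single] using this

theorem skew_of_alt {ι : Type*} [Fintype ι] (B : Matrix ι ι F)
    (h : ∀ v, v ⬝ᵥ (B *ᵥ v) = 0) (u v : ι → F) : u ⬝ᵥ (B *ᵥ v) = - (v ⬝ᵥ (B *ᵥ u)) := by
  have h1 := h (u + v)
  rw [mulVec_add, add_dotProduct, dotProduct_add, dotProduct_add, h, h] at h1
  linear_combination h1

/-- Even multiplicity of odd parts for an element preserving an alternating form. -/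
theorem even_card_of_alternating {ι : Type} [Fintype ι] [DecidableEq ι] (e : Idx d ≃ ι)
    {A G : Matrix ι ι F} (h : IsConj (reindex e e (Cfsg.jordanTypeMatrix d F)) A)
    (hGd : IsUnit G.det) (halt : ∀ v, v ⬝ᵥ (G *ᵥ v) = 0) (hG : Aᵀ * G * A = G) :
    ∀ j : ℕ, Odd j → Even (Finset.univ.filter (fun k => d k = j)).card := by
  rintro j ⟨i, rfl⟩
  have hAu : IsUnit A.det := by
    have := congrArg det hG
    rw [det_mul, det_mul, det_transpose] at this
    refine IsUnit.of_mul_eq_one A.det (mul_right_cancel₀ hGd.ne_zero ?_)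
    rw [one_mul]; linear_combination this
  have hAB : A * A⁻¹ = 1 := mul_nonsing_inv _ hAu
  have he : ∀ i, Even (∑ k, (d k - 2 * i)) := fun i => by
    rw [← rank_pow_eq_of_isConj d e h]
    exact even_rank_pow_two_mul hGd halt hAB hG i
  have h1 := sum_sub_add d (2 * i + 1) (by omega)
  have h2 := (he i).add (he (i + 1))
  rw [show 2 * i + 1 - 1 = 2 * i by omega, show 2 * i + 1 + 1 = 2 * (i + 1) by ring] at h1
  rw [h1] at h2
  exact (Nat.even_add.mp h2).mp ⟨_, two_mul _⟩

/-- Even multiplicity of even parts for an orthogonal element in characteristic not two. -/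
theorem even_card_of_symmetric {ι : Type} [Fintype ι] [DecidableEq ι] (h2 : (2 : F) ≠ 0)
    (e : Idx d ≃ ι) {A G : Matrix ι ι F} (h : IsConj (reindex e e (Cfsg.jordanTypeMatrix d F)) A)
    (hGd : IsUnit G.det) (hsym : Gᵀ = G) (hG : Aᵀ * G * A = G) :
    ∀ j : ℕ, Even j → 0 < j → Even (Finset.univ.filter (fun k => d k = j)).card := by
  intro j hj hj0
  obtain ⟨i, rfl⟩ : ∃ i, j = 2 * i + 2 := by obtain ⟨i, rfl⟩ := hj; exact ⟨i - 1, by omega⟩
  have hAu : IsUnit A.det := by
    have := congrArg det hG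
    rw [det_mul, det_mul, det_transpose] at this
    refine IsUnit.of_mul_eq_one A.det (mul_right_cancel₀ hGd.ne_zero ?_)
    rw [one_mul]; linear_combination this
  have hAB : A * A⁻¹ = 1 := mul_nonsing_inv _ hAu
  have hnil : IsNilpotent (A - 1) := by
    refine ⟨∑ k, d k, ?_⟩
    have h0 := rank_pow_eq_of_isConj d e h (∑ k, d k)
    rw [Finset.sum_eq_zero fun k _ => Nat.sub_eq_zero_of_le
      (Finset.single_le_sum (fun _ _ => Nat.zero_le _) (Finset.mem_univ k))] at h0
    exact eq_zero_of_rank h0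
  have he : ∀ i, Even (∑ k, (d k - (2 * i + 1))) := fun i => by
    rw [← rank_pow_eq_of_isConj d e h]
    exact even_rank_pow_two_mul_add_one h2 hGd hsym hAB hG hnil i
  have h1 := sum_sub_add d (2 * i + 2) (by omega)
  have h3 := (he i).add (he (i + 1))
  rw [show 2 * i + 2 - 1 = 2 * i + 1 by omega,
    show 2 * i + 2 + 1 = 2 * (i + 1) + 1 by ring] at h1
  rw [h1] at h3
  exact (Nat.even_add.mp h3).mp ⟨_, two_mul _⟩

/-- An alternating form preserved by a matrix of the given type. -/
theorem exists_alternating (h : ∀ j : ℕ, Odd j → Even (Finset.univ.filter (fun k => d k = j)).card)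
    {ι : Type} [Fintype ι] [DecidableEq ι] (e : Idx d ≃ ι) :
    ∃ B : Matrix ι ι F, (reindex e e (Cfsg.jordanTypeMatrix d F))ᵀ * B *
      reindex e e (Cfsg.jordanTypeMatrix d F) = B ∧ IsUnit B.det ∧ ∀ v, v ⬝ᵥ (B *ᵥ v) = 0 := by
  classical
  let C := fun j => (exists_block_form (F := F) j).choose
  let S := fun j => if hj : Even j then (exists_block_alternating (F := F) j hj).choose else 0
  have hS : ∀ j (hj : Even j), S j = (exists_block_alternating (F := F) j hj).choose :=
    fun j hj => dif_pos hj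
  obtain ⟨B, hB, hBu, hBt, hBd⟩ := exists_form d (fun j => Even j)
    (fun j hj => h j (Nat.not_even_iff_odd.mp hj)) (-1 : F) (by ring) C S
    (fun j => (exists_block_form j).choose_spec)
    (fun j hj => by
      rw [hS j hj]
      obtain ⟨p1, p2, p3, -⟩ := (exists_block_alternating (F := F) j hj).choose_spec
      exact ⟨p1, p2, p3⟩)
  have hd0 := hBd fun j hj a => by
    rw [hS j hj]
    exact (exists_block_alternating (F := F) j hj).choose_spec.2.2.2 a
  refine ⟨reindex e e B, ?_, by rwa [det_reindex_self], alt_of_skew _ (fun x => ?_) ?_⟩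
  · simp only [reindex_apply, transpose_submatrix, submatrix_mul_equiv]
    rw [hB]
  · simp [hd0]
  · simp only [reindex_apply, transpose_submatrix, hBt]
    rfl

/-- A symmetric form preserved by a matrix of the given type, characteristic not two. -/
theorem exists_symmetric (h2 : (2 : F) ≠ 0)
    (h : ∀ j : ℕ, Even j → 0 < j → Even (Finset.univ.filter (fun k => d k = j)).card)
    (hd : ∀ k, 1 ≤ d k) {ι : Type} [Fintype ι] [DecidableEq ι] (e : Idx d ≃ ι) :
    ∃ B : Matrix ι ι F, (reindex e e (Cfsg.jordanTypeMatrix d F))ᵀ * B *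
      reindex e e (Cfsg.jordanTypeMatrix d F) = B ∧ IsUnit B.det ∧ Bᵀ = B := by
  classical
  let C := fun j => (exists_block_form (F := F) j).choose
  let S := fun j => if hj : Odd j then (exists_block_symmetric (F := F) h2 j hj).choose else 0
  have hS : ∀ j (hj : Odd j), S j = (exists_block_symmetric (F := F) h2 j hj).choose :=
    fun j hj => dif_pos hj
  obtain ⟨B, hB, hBu, hBt, -⟩ := exists_form d (fun j => Odd j)
    (fun j hj => by
      rcases Nat.eq_zero_or_pos j with h0 | h0
      · subst h0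
        rw [Finset.filter_false_of_mem fun k _ => by have := hd k; omega]
        exact Even.zero
      · exact h j (Nat.not_odd_iff_even.mp hj) h0)
    (1 : F) (by ring) C S
    (fun j => (exists_block_form j).choose_spec)
    (fun j hj => by
      rw [hS j hj]
      exact (exists_block_symmetric (F := F) h2 j hj).choose_spec)
  refine ⟨reindex e e B, ?_, by rwa [det_reindex_self], ?_⟩
  · simp only [reindex_apply, transpose_submatrix, submatrix_mul_equiv]
    rw [hB]
  · simp only [reindex_apply, transpose_submatrix, hBt, one_smul]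

theorem isUnit_reindex_type {ι : Type} [Fintype ι] [DecidableEq ι] (e : Idx d ≃ ι) :
    IsUnit (reindex e e (Cfsg.jordanTypeMatrix d F)).det := by
  rw [det_reindex_self]
  have : IsNilpotent (Cfsg.jordanTypeMatrix d F - 1) := by
    refine ⟨∑ k, d k, ?_⟩
    refine eq_zero_of_rank ?_
    rw [rank_type_pow]
    exact Finset.sum_eq_zero fun k _ => Nat.sub_eq_zero_of_le
      (Finset.single_le_sum (fun _ _ => Nat.zero_le _) (Finset.mem_univ k))
  have := this.isUnit_one_add
  rw [add_sub_cancel] at this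
  exact (isUnit_iff_isUnit_det _).mp this

/-- An alternating invertible matrix is congruent to the standard one. -/
theorem exists_congr_J [Fintype F] {n m : ℕ} (hn : n = 2 * m) (B : Matrix (Fin n) (Fin n) F)
    (hBu : IsUnit B.det) (halt : ∀ v, v ⬝ᵥ (B *ᵥ v) = 0) :
    ∃ (P : Matrix (Fin m ⊕ Fin m) (Fin n) F) (Q : Matrix (Fin n) (Fin m ⊕ Fin m) F),
      P * Q = 1 ∧ Q * P = 1 ∧ Pᵀ * Matrix.J (Fin m) F * P = B := by
  set f : (Fin n → F) → (Fin n → F) → F := fun u v => u ⬝ᵥ (B *ᵥ v) with hf
  have hs : Cfsg.Geo.IsSymplecticForm f := by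
    refine ⟨⟨fun x y v => by simp [hf, add_dotProduct], fun c x v => by simp [hf, smul_dotProduct],
      fun v x y => by simp [hf, mulVec_add, dotProduct_add],
      fun c v x => by simp [hf, mulVec_smul, dotProduct_smul]⟩,
      fun v w => skew_of_alt B halt v w, halt, ?_⟩
    intro v hv
    have hex : ∃ x, f x v ≠ 0 := by
      by_contra hc
      push Not at hc
      have : B *ᵥ v = 0 := funext fun i => by simpa [hf] using hc (Pi.single i 1)
      exact hv (mulVec_injective_iff_isUnit.mpr ((isUnit_iff_isUnit_det B).mpr hBu)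
        (by rw [this, mulVec_zero]))
    obtain ⟨x, hx⟩ := hex
    exact ⟨⟨x, hx⟩, ⟨x, by rw [hf] at hx ⊢; simp only at hx ⊢; rw [skew_of_alt B halt v x]; simpa using hx⟩⟩
  obtain ⟨S, hS1, hS2⟩ := CfsgLib.MaxSub.Elusive.exists_plane_basis hs hn
  let c : Fin m ⊕ Fin m → Fin m × Fin 2 := Sum.elim (fun j => (j, 1)) (fun j => (j, 0))
  let M : Matrix (Fin n) (Fin m ⊕ Fin m) F := Matrix.of fun i x => S (c x) i
  have hMBM : Mᵀ * B * M = Matrix.J (Fin m) F := by
    ext x y
    have e : (Mᵀ * B * M) x y = f (S (c x)) (S (c y)) := by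
      rw [Matrix.mul_assoc, mul_apply]
      simp only [hf, dotProduct, mulVec, mul_apply, M, transpose_apply, of_apply]
    rw [e]
    rcases x with j | j <;> rcases y with k | k <;>
      simp only [c, Sum.elim_inl, Sum.elim_inr, Matrix.J, fromBlocks_apply₁₁, fromBlocks_apply₁₂,
        fromBlocks_apply₂₁, fromBlocks_apply₂₂, Matrix.zero_apply, Matrix.neg_apply, one_apply]
    · rcases eq_or_ne j k with rfl | h
      · exact hs.alternating _
      · exact hS2 _ _ _ _ h
    · rcases eq_or_ne j k with rfl | h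
      · rw [hs.skew, hS1, if_pos rfl]
      · rw [hS2 _ _ _ _ h, if_neg h, neg_zero]
    · rcases eq_or_ne j k with rfl | h
      · rw [hS1, if_pos rfl]
      · rw [hS2 _ _ _ _ h, if_neg h]
    · rcases eq_or_ne j k with rfl | h
      · exact hs.alternating _
      · exact hS2 _ _ _ _ h
  set P := -(Matrix.J (Fin m) F) * (Mᵀ * B) with hP
  have hPM : P * M = 1 := by
    rw [hP, Matrix.mul_assoc, hMBM, Matrix.neg_mul, Matrix.J_squared, neg_neg]
  have hMP : M * P = 1 :=
    (mul_eq_one_comm_of_equiv (finSumFinEquiv.trans (finCongr (by omega)))).mp hPM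
  refine ⟨P, M, hPM, hMP, ?_⟩
  calc Pᵀ * Matrix.J (Fin m) F * P =
        Pᵀ * ((Matrix.J (Fin m) F * -Matrix.J (Fin m) F) * (Mᵀ * B)) := by
          nth_rewrite 2 [hP]
          simp only [Matrix.mul_assoc]
    _ = (M * P)ᵀ * B := by
          rw [Matrix.mul_neg, Matrix.J_squared, neg_neg, Matrix.one_mul, ← Matrix.mul_assoc,
            ← transpose_mul M P]
    _ = B := by rw [hMP, transpose_one, Matrix.one_mul]

/-- In characteristic two a matrix preserving an alternating form preserves a quadratic form with that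
polar. -/
theorem exists_quadratic_two [Fintype F] [CharP F 2] {n : ℕ} (A G : Matrix (Fin n) (Fin n) F)
    (hGd : IsUnit G.det) (halt : ∀ v, v ⬝ᵥ (G *ᵥ v) = 0) (hG : Aᵀ * G * A = G) :
    ∃ Q : QuadraticForm F (Fin n → F), (QuadraticMap.polarBilin Q).Nondegenerate ∧
      ∀ v, Q (A *ᵥ v) = Q v := by
  classical
  let U : Matrix (Fin n) (Fin n) F := Matrix.of fun a b => if a < b then G a b else 0
  have hdiag : ∀ a, G a a = 0 := fun a => by
    simpa [mulVec_single, single_dotProduct] using halt (Pi.single a 1)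
  have hsym : ∀ a b, G b a = G a b := fun a b => by
    have := skew_of_alt G halt (Pi.single b 1) (Pi.single a 1)
    simpa [mulVec_single, single_dotProduct, CharTwo.neg_eq] using this
  have hU : U + Uᵀ = G := by
    ext a b
    simp only [U, Matrix.add_apply, transpose_apply, of_apply]
    rcases lt_trichotomy a b with h | h | h
    · rw [if_pos h, if_neg (not_lt.mpr h.le), add_zero]
    · subst h; simp [hdiag]
    · rw [if_neg (not_lt.mpr h.le), if_pos h, zero_add, hsym]
  set Q0 : QuadraticForm F (Fin n → F) := LinearMap.BilinMap.toQuadraticMap (Matrix.toLinearMap₂' F U) with hQ0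
  have hpol : ∀ u v, QuadraticMap.polar Q0 u v = u ⬝ᵥ (G *ᵥ v) := fun u v => by
    rw [hQ0, LinearMap.BilinMap.polar_toQuadraticMap, Matrix.toLinearMap₂'_apply',
      Matrix.toLinearMap₂'_apply', ← hU, add_mulVec, dotProduct_add, dotProduct_mulVec v U,
      ← mulVec_transpose, dotProduct_comm (Uᵀ *ᵥ v)]
  have hAG : ∀ u v, (A *ᵥ u) ⬝ᵥ (G *ᵥ (A *ᵥ v)) = u ⬝ᵥ (G *ᵥ v) := fun u v => by
    conv_rhs => rw [← hG, ← mulVec_mulVec, ← mulVec_mulVec, dotProduct_mulVec u Aᵀ, vecMul_transpose]
  set δ : (Fin n → F) → F := fun u => Q0 (A *ᵥ u) - Q0 u with hδ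
  have hadd : ∀ u v, δ (u + v) = δ u + δ v := fun u v => by
    have e1 := hpol (A *ᵥ u) (A *ᵥ v)
    have e2 := hpol u v
    rw [QuadraticMap.polar, hAG] at e1
    rw [QuadraticMap.polar] at e2
    simp only [hδ, mulVec_add]
    linear_combination e1 - e2
  have hsmul : ∀ (c : F) u, δ (c • u) = c ^ 2 * δ u := fun c u => by
    simp only [hδ, mulVec_smul, QuadraticMap.map_smul, smul_eq_mul]
    ring
  let s : F → F := (frobeniusEquiv F 2).symm
  have hs2 : ∀ x, s x ^ 2 = x := fun x => by
    exact (frobeniusEquiv F 2).apply_symm_apply x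
  let lam : (Fin n → F) →ₗ[F] F :=
    { toFun := fun u => s (δ u)
      map_add' := fun u v => by rw [hadd]; exact map_add (frobeniusEquiv F 2).symm _ _
      map_smul' := fun c u => by
        rw [hsmul, RingHom.id_apply, smul_eq_mul]
        have hc : s (c ^ 2) = c := (frobeniusEquiv F 2).symm_apply_apply c
        have hm : s (c ^ 2 * δ u) = s (c ^ 2) * s (δ u) := map_mul (frobeniusEquiv F 2).symm _ _
        rw [hm, hc] }
  set T := (A - 1).mulVecLin with hT
  have hker : lam ∈ LinearMap.range T.dualMap := by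
    rw [LinearMap.range_dualMap_eq_dualAnnihilator_ker, Submodule.mem_dualAnnihilator]
    intro u hu
    have h1 : A *ᵥ u = u := by
      have h1 : (A - 1) *ᵥ u = 0 := hu
      rwa [sub_mulVec, one_mulVec, sub_eq_zero] at h1
    show s (δ u) = 0
    rw [hδ]
    simp only [h1, sub_self]
    exact map_zero (frobeniusEquiv F 2).symm
  obtain ⟨μ, hμ⟩ := hker
  have hμ' : ∀ u, μ (A *ᵥ u) - μ u = lam u := fun u => by
    rw [← map_sub, ← hμ]
    simp [hT, sub_mulVec]
  set Q : QuadraticForm F (Fin n → F) := Q0 + QuadraticMap.linMulLin μ μ with hQ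
  refine ⟨Q, ?_, fun v => ?_⟩
  · have e : QuadraticMap.polarBilin Q = Matrix.toLinearMap₂' F G := by
      refine LinearMap.ext fun u => LinearMap.ext fun v => ?_
      rw [Matrix.toLinearMap₂'_apply', ← hpol u v, QuadraticMap.polarBilin_apply_apply,
        QuadraticMap.polar, QuadraticMap.polar, hQ]
      simp only [_root_.add_apply, QuadraticMap.linMulLin_apply, map_add]
      linear_combination μ u * μ v * CharTwo.two_eq_zero (R := F)
    rw [e]
    exact LinearMap.BilinForm.nondegenerate_toBilin'_of_det_ne_zero' G hGd.ne_zero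
  · have h1 : lam v ^ 2 = δ v := hs2 _
    rw [hQ]
    simp only [_root_.add_apply, QuadraticMap.linMulLin_apply]
    rw [← hμ' v, hδ] at h1
    linear_combination h1 +
      (Q0 (A *ᵥ v) - Q0 v + μ (A *ᵥ v) * μ v - μ v * μ v) * CharTwo.two_eq_zero (R := F)

end CfsgLib.JordanForms
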