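import Mathlib
import Cfsg.Prelude.Def_JordanBlocks
import Cfsg.Agent.Lib.Aschbacher.Forms

/-!
Jordan types of unipotent matrices: ranks of powers, regular unipotent matrices, and the parity of the
ranks of powers for matrices preserving a form.
-/

set_option autoImplicit false

namespace CfsgLib.JordanForms

open Matrix

variable {F : Type*} [Field F]

/-! ### Powers of the nilpotent part of a block -/

/-- The shift by `s` steps. -/
def shift (k s : ℕ) (F : Type*) [Field F] : Matrix (Fin k) (Fin k) F :=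
  Matrix.of fun a b => if (a : ℕ) = (b : ℕ) + s then 1 else 0

theorem jordanBlock_sub_one (k : ℕ) : Cfsg.jordanBlock k F - 1 = shift k 1 F := by
  ext a b
  simp only [Cfsg.jordanBlock, shift, Matrix.sub_apply, one_apply, of_apply, Fin.ext_iff]
  split_ifs <;> first | omega | simp

theorem shift_mul (k s r : ℕ) : shift k s F * shift k r F = shift k (s + r) F := by
  ext a c
  rw [mul_apply]
  by_cases h : (a : ℕ) = (c : ℕ) + (s + r)
  · rw [Finset.sum_eq_single (⟨(c : ℕ) + r, by omega⟩ : Fin k)]
    · simp [shift, h]; omega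
    · intro b _ hb
      have : (b : ℕ) ≠ (c : ℕ) + r := fun e => hb (Fin.ext e)
      simp [shift, this]
    · simp
  · rw [Finset.sum_eq_zero, show shift k (s + r) F a c = 0 by simp [shift, h]]
    intro b _
    simp only [shift, of_apply]
    split_ifs <;> first | omega | simp

theorem shift_zero (k : ℕ) : shift k 0 F = 1 := by
  ext a b
  simp [shift, one_apply, Fin.ext_iff]

theorem shift_one_pow (k j : ℕ) : shift k 1 F ^ j = shift k j F := by
  induction j with
  | zero => rw [pow_zero, shift_zero]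
  | succ j ih => rw [pow_succ, ih, shift_mul]

theorem jordanBlock_sub_one_pow (k j : ℕ) : (Cfsg.jordanBlock k F - 1) ^ j = shift k j F := by
  rw [jordanBlock_sub_one, shift_one_pow]

theorem shift_eq_zero {k s : ℕ} (h : k ≤ s) : shift k s F = 0 := by
  ext a b
  have := a.2
  simp [shift]
  omega

/-! ### Ranks -/

variable {t : ℕ} (d : Fin t → ℕ)

/-- The index type of a Jordan type. -/
abbrev Idx {t : ℕ} (d : Fin t → ℕ) := (k : Fin t) × Fin (d k)

theorem sub_one_pow_eq (j : ℕ) :
    (Cfsg.jordanTypeMatrix d F - 1) ^ j = blockDiagonal' fun k => shift (d k) j F := by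
  rw [Cfsg.jordanTypeMatrix, ← blockDiagonal'_one, ← blockDiagonal'_sub, ← blockDiagonal'_pow]
  congr 1
  funext k
  simp [jordanBlock_sub_one_pow]

theorem rank_type_pow (j : ℕ) :
    ((Cfsg.jordanTypeMatrix d F - 1) ^ j).rank = ∑ k, (d k - j) := by
  classical
  rw [sub_one_pow_eq]
  set M := blockDiagonal' fun k => shift (d k) j F with hM
  let S := (k : Fin t) × Fin (d k - j)
  let row : S → Idx d := fun x => ⟨x.1, ⟨(x.2 : ℕ) + j, by have := x.2.2; omega⟩⟩
  let col : S → Idx d := fun x => ⟨x.1, ⟨(x.2 : ℕ), by have := x.2.2; omega⟩⟩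
  have hcard : Fintype.card S = ∑ k, (d k - j) := by simp [S]
  have hfac : M = (1 : Matrix (Idx d) (Idx d) F).submatrix id row *
      (1 : Matrix (Idx d) (Idx d) F).submatrix col id := by
    ext ⟨k, a⟩ ⟨l, b⟩
    rw [mul_apply, hM, blockDiagonal'_apply]
    by_cases hkl : k = l
    · subst hkl
      rw [dif_pos rfl]
      by_cases hab : (a : ℕ) = (b : ℕ) + j
      · rw [Finset.sum_eq_single (⟨k, ⟨b, by have := a.2; omega⟩⟩ : S)]
        · simp [shift, row, col, hab, Fin.ext_iff, one_apply]
        · rintro ⟨k', c⟩ _ hne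
          simp only [submatrix_apply, one_apply, row, col, id]
          rw [mul_eq_zero]
          by_cases hk : k' = k
          · subst hk
            refine Or.inr (if_neg fun h => hne ?_)
            simp [Fin.ext_iff] at h
            simp [Fin.ext_iff, h]
          · exact Or.inl (if_neg fun h => hk (congrArg Sigma.fst h).symm)
        · simp
      · rw [Finset.sum_eq_zero, show shift (d k) j F a (cast rfl b) = 0 by simp [shift, hab]]
        rintro ⟨k', c⟩ _
        simp only [submatrix_apply, one_apply, row, col, id]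
        rw [mul_eq_zero]
        by_contra hc
        push Not at hc
        obtain ⟨h1, h2⟩ := hc
        simp only [ne_eq, ite_eq_right_iff, one_ne_zero, imp_false, not_not] at h1 h2
        obtain ⟨rfl, h1⟩ := Sigma.mk.inj_iff.mp h1
        simp [Fin.ext_iff] at h1 h2
        omega
    · rw [dif_neg hkl, Finset.sum_eq_zero]
      rintro ⟨k', c⟩ _
      simp only [submatrix_apply, one_apply, row, col, id]
      rw [mul_eq_zero]
      by_contra hc
      push Not at hc
      obtain ⟨h1, h2⟩ := hc
      simp only [ne_eq, ite_eq_right_iff, one_ne_zero, imp_false, not_not] at h1 h2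
      exact hkl ((congrArg Sigma.fst h1).trans (congrArg Sigma.fst h2))
  refine le_antisymm ?_ ?_
  · rw [hfac, ← hcard]
    exact (rank_mul_le_left _ _).trans (rank_le_card_width _)
  · have h1 : M.submatrix row col = 1 := by
      ext ⟨k, a⟩ ⟨l, b⟩
      rw [submatrix_apply, hM, blockDiagonal'_apply]
      by_cases hkl : k = l
      · subst hkl
        simp [row, col, shift, one_apply, Fin.ext_iff]
      · rw [dif_neg (by exact hkl), one_apply_ne fun h => hkl (congrArg Sigma.fst h)]
    rw [← hcard, ← rank_one (R := F) (n := S), ← h1]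
    exact rank_submatrix_le M row col

theorem sum_sub_add (j : ℕ) (hj : 1 ≤ j) :
    ∑ k, (d k - (j - 1)) + ∑ k, (d k - (j + 1)) =
      2 * (∑ k, (d k - j)) + (Finset.univ.filter fun k => d k = j).card := by
  rw [Finset.card_filter, Finset.mul_sum, ← Finset.sum_add_distrib, ← Finset.sum_add_distrib]
  refine Finset.sum_congr rfl fun k _ => ?_
  split_ifs <;> omega

/-- Ranks of powers are invariant under similarity. -/
theorem rank_pow_eq_of_isConj {ι : Type*} [Fintype ι] [DecidableEq ι] (e : Idx d ≃ ι)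
    {A : Matrix ι ι F} (h : IsConj (reindex e e (Cfsg.jordanTypeMatrix d F)) A) (j : ℕ) :
    ((A - 1) ^ j).rank = ∑ k, (d k - j) := by
  obtain ⟨c, hc⟩ := h
  set X := reindex e e (Cfsg.jordanTypeMatrix d F)
  have hc' : SemiconjBy (c : Matrix ι ι F) X A := hc
  have hsub : SemiconjBy (c : Matrix ι ι F) (X - 1) (A - 1) :=
    hc'.sub_right (SemiconjBy.one_right _)
  have hpow : (c : Matrix ι ι F) * (X - 1) ^ j = (A - 1) ^ j * c := hsub.pow_right j
  have hdet : IsUnit (c : Matrix ι ι F).det := (isUnit_iff_isUnit_det _).mp c.isUnit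
  rw [← rank_mul_eq_left_of_isUnit_det _ ((A - 1) ^ j) hdet, ← hpow,
    rank_mul_eq_right_of_isUnit_det _ _ hdet]
  have e1 : (X - 1) ^ j = reindex e e ((Cfsg.jordanTypeMatrix d F - 1) ^ j) := by
    show (reindexAlgEquiv F F e (Cfsg.jordanTypeMatrix d F) - 1) ^ j =
      reindexAlgEquiv F F e ((Cfsg.jordanTypeMatrix d F - 1) ^ j)
    rw [map_pow, map_sub, map_one]
  rw [e1, rank_reindex, rank_type_pow]

/-! ### Parity of ranks -/

variable {ι : Type} [Fintype ι] [DecidableEq ι]

/-- An alternating matrix has even rank. -/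
theorem even_rank_of_alternating (M : Matrix ι ι F) (halt : ∀ v, v ⬝ᵥ (M *ᵥ v) = 0) : Even M.rank := by
  obtain ⟨W, hW⟩ := exists_isCompl (LinearMap.ker M.mulVecLin)
  set f : (ι → F) → (ι → F) → F := fun u v => u ⬝ᵥ (M *ᵥ v) with hf
  have hb : Cfsg.Geo.IsBilinearForm f :=
    ⟨fun x y v => by simp [hf, add_dotProduct], fun c x v => by simp [hf, smul_dotProduct],
      fun v x y => by simp [hf, mulVec_add, dotProduct_add],
      fun c v x => by simp [hf, mulVec_smul, dotProduct_smul]⟩
  have hskew : ∀ u v, f u v = - f v u := fun u v => by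
    have h1 : f (u + v) (u + v) = 0 := halt _
    rw [hb.add_left, hb.add_right, hb.add_right, show f u u = 0 from halt u,
      show f v v = 0 from halt v] at h1
    linear_combination h1
  have hdim : Module.finrank F W = M.rank := by
    have h1 := Submodule.finrank_add_eq_of_isCompl hW
    have h2 := LinearMap.finrank_range_add_finrank_ker M.mulVecLin
    rw [Matrix.rank]
    omega
  rw [← hdim]
  refine CfsgLib.Aschbacher.even_finrank_of_alternating hb halt _ W rfl fun w hw hw0 => ?_
  have hMw : M *ᵥ w ≠ 0 := fun h => hw0 <| by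
    have : w ∈ LinearMap.ker M.mulVecLin ⊓ W := ⟨h, hw⟩
    rwa [hW.inf_eq_bot, Submodule.mem_bot] at this
  obtain ⟨x, hx⟩ : ∃ x, f x w ≠ 0 := by
    by_contra hc
    push Not at hc
    exact hMw (funext fun i => by simpa [hf] using hc (Pi.single i 1))
  have hx' : x ∈ LinearMap.ker M.mulVecLin ⊔ W := by
    rw [hW.sup_eq_top]; exact Submodule.mem_top
  obtain ⟨k, hk, x', hx'W, rfl⟩ := Submodule.mem_sup.mp hx'
  refine ⟨x', hx'W, fun h0 => hx ?_⟩
  rw [hb.add_left, hskew k w, hskew x' w, h0]
  have : f w k = 0 := by simp [hf, show M *ᵥ k = 0 from hk]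
  simp [this]

variable {G A B : Matrix ι ι F}

/-- `A - 2 + A⁻¹`. -/
def lop (A B : Matrix ι ι F) : Matrix ι ι F := A - 2 • 1 + B

theorem transpose_mul_of_preserved (hAB : A * B = 1) (hG : Aᵀ * G * A = G) : Aᵀ * G = G * B :=
  calc Aᵀ * G = Aᵀ * G * (A * B) := by rw [hAB, Matrix.mul_one]
    _ = G * B := by rw [← Matrix.mul_assoc (Aᵀ * G) A B, hG]

theorem transpose_inv_mul_of_preserved (hAB : A * B = 1) (hG : Aᵀ * G * A = G) : Bᵀ * G = G * A :=
  calc Bᵀ * G = Bᵀ * (Aᵀ * G * A) := by rw [hG]
    _ = (A * B)ᵀ * G * A := by rw [transpose_mul]; simp only [Matrix.mul_assoc]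
    _ = G * A := by rw [hAB, transpose_one, Matrix.one_mul]

theorem lop_adjoint (hAB : A * B = 1) (hG : Aᵀ * G * A = G) :
    (lop A B)ᵀ * G = G * lop A B := by
  simp only [lop, transpose_add, transpose_sub, transpose_smul, transpose_one, Matrix.add_mul,
    Matrix.sub_mul, Matrix.mul_add, Matrix.mul_sub, transpose_mul_of_preserved hAB hG,
    transpose_inv_mul_of_preserved hAB hG, Matrix.smul_mul, Matrix.mul_smul, Matrix.one_mul,
    Matrix.mul_one]
  abel

theorem lop_pow_adjoint (hAB : A * B = 1) (hG : Aᵀ * G * A = G) (i : ℕ) :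
    (lop A B ^ i)ᵀ * G = G * lop A B ^ i := by
  induction i with
  | zero => simp
  | succ i ih =>
    rw [pow_succ, transpose_mul, Matrix.mul_assoc, ih, ← Matrix.mul_assoc, lop_adjoint hAB hG,
      Matrix.mul_assoc, ← pow_succ', ← pow_succ]

theorem lop_mul (hAB : A * B = 1) : lop A B * A = (A - 1) ^ 2 := by
  rw [lop, Matrix.add_mul, Matrix.sub_mul, Matrix.smul_mul, Matrix.one_mul, mul_eq_one_comm.mp hAB,
    sq, Matrix.sub_mul, Matrix.mul_sub, Matrix.one_mul, Matrix.mul_one, two_smul]
  abel

theorem sub_one_pow_two_mul (hAB : A * B = 1) (i : ℕ) : (A - 1) ^ (2 * i) = lop A B ^ i * A ^ i := by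
  have hc : Commute (lop A B) A := by
    have h1 : Commute B A := by
      show B * A = A * B
      rw [hAB, mul_eq_one_comm.mp hAB]
    exact (((Commute.refl A).sub_left ((Commute.one_left A).smul_left 2)).add_left h1)
  rw [← hc.mul_pow, lop_mul hAB, pow_mul]

theorem isUnit_det_left (hAB : A * B = 1) : IsUnit A.det :=
  (isUnit_iff_isUnit_det A).mp ⟨⟨A, B, hAB, mul_eq_one_comm.mp hAB⟩, rfl⟩

/-- Even powers, alternating form. -/
theorem even_rank_pow_two_mul (hGd : IsUnit G.det) (halt : ∀ v, v ⬝ᵥ (G *ᵥ v) = 0)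
    (hAB : A * B = 1) (hG : Aᵀ * G * A = G) (i : ℕ) : Even ((A - 1) ^ (2 * i)).rank := by
  have hA := isUnit_det_left hAB
  rw [sub_one_pow_two_mul hAB, rank_mul_eq_left_of_isUnit_det _ _ (by rw [det_pow]; exact hA.pow i),
    ← rank_mul_eq_right_of_isUnit_det G _ hGd]
  refine even_rank_of_alternating _ fun v => ?_
  obtain ⟨h, rfl | rfl⟩ := i.even_or_odd'
  all_goals set L := lop A B with hL
  all_goals set w := L ^ h *ᵥ v with hw
  · have e1 : G * L ^ (2 * h) = (L ^ h)ᵀ * G * L ^ h := by
      rw [hL, lop_pow_adjoint hAB hG, Matrix.mul_assoc, ← pow_add, two_mul]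
    rw [e1, ← mulVec_mulVec, ← mulVec_mulVec, dotProduct_mulVec v (L ^ h)ᵀ, vecMul_transpose]
    exact halt w
  · have e1 : G * L ^ (2 * h + 1) = (L ^ h)ᵀ * (G * L) * L ^ h := by
      rw [← Matrix.mul_assoc, hL, lop_pow_adjoint hAB hG]
      simp only [Matrix.mul_assoc]
      rw [← pow_succ', ← pow_add]
      ring_nf
    rw [e1, ← mulVec_mulVec, ← mulVec_mulVec, dotProduct_mulVec v (L ^ h)ᵀ, vecMul_transpose, ← hw,
      hL, lop, Matrix.mul_add, Matrix.mul_sub, Matrix.mul_smul, Matrix.mul_one, add_mulVec,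
      sub_mulVec, smul_mulVec, dotProduct_add, dotProduct_sub, dotProduct_smul, halt w, smul_zero,
      sub_zero]
    have h2 : w ⬝ᵥ ((G * B) *ᵥ w) = - (w ⬝ᵥ ((G * A) *ᵥ w)) := by
      rw [← transpose_mul_of_preserved hAB hG, ← mulVec_mulVec, ← mulVec_mulVec,
        dotProduct_mulVec w Aᵀ, vecMul_transpose]
      have h1 := halt (A *ᵥ w + w)
      rw [mulVec_add, add_dotProduct, dotProduct_add, dotProduct_add, halt, halt] at h1
      linear_combination h1
    rw [h2, add_neg_cancel]

/-- Odd powers, symmetric form, characteristic not two. -/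
theorem even_rank_pow_two_mul_add_one (h2 : (2 : F) ≠ 0) (hGd : IsUnit G.det) (hsym : Gᵀ = G)
    (hAB : A * B = 1) (hG : Aᵀ * G * A = G) (hnil : IsNilpotent (A - 1)) (i : ℕ) :
    Even ((A - 1) ^ (2 * i + 1)).rank := by
  have hA := isUnit_det_left hAB
  have hB := isUnit_det_left (mul_eq_one_comm.mp hAB)
  have hA1 : IsUnit (A + 1).det := by
    rw [← isUnit_iff_isUnit_det]
    have he : A + 1 = (2 : F) • (1 : Matrix ι ι F) + (A - 1) := by
      rw [two_smul]; abel
    have hu : IsUnit ((2 : F) • (1 : Matrix ι ι F)) := by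
      rw [isUnit_iff_isUnit_det, det_smul, det_one, mul_one]
      exact (isUnit_iff_ne_zero.mpr h2).pow _
    rw [he]
    exact hnil.isUnit_add_left_of_commute hu ((Commute.one_left _).smul_left _).symm
  set L := lop A B with hL
  have hc : Commute L (A - B) := by
    have h1 : Commute A B := by
      show A * B = B * A
      rw [hAB, mul_eq_one_comm.mp hAB]
    rw [hL, lop]
    refine (Commute.add_left (Commute.sub_left ?_ ((Commute.one_left _).smul_left _)) ?_)
    · exact (Commute.refl A).sub_right h1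
    · exact h1.symm.sub_right (Commute.refl B)
  have e : (A - 1) ^ (2 * i + 1) * ((A + 1) * B) = L ^ i * (A - B) * A ^ i := by
    have h3 : (A - 1) * ((A + 1) * B) = A - B := by
      rw [← Matrix.mul_assoc, Matrix.sub_mul, Matrix.one_mul, Matrix.mul_add, Matrix.mul_one,
        show A * A + A - (A + 1) = A * A - 1 by abel, Matrix.sub_mul, Matrix.mul_assoc, hAB,
        Matrix.mul_one, Matrix.one_mul]
    rw [pow_succ, Matrix.mul_assoc, h3, sub_one_pow_two_mul hAB, ← hL, Matrix.mul_assoc,
      Matrix.mul_assoc]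
    congr 1
    have h4 : Commute (A ^ i) (A - B) := by
      refine (Commute.pow_self A i).sub_right (Commute.pow_left ?_ i)
      show A * B = B * A
      rw [hAB, mul_eq_one_comm.mp hAB]
    exact h4
  have hu : IsUnit ((A + 1) * B).det := by rw [det_mul]; exact hA1.mul hB
  rw [← rank_mul_eq_left_of_isUnit_det _ ((A - 1) ^ (2 * i + 1)) hu, e,
    rank_mul_eq_left_of_isUnit_det _ _ (by rw [det_pow]; exact hA.pow i),
    ← rank_mul_eq_right_of_isUnit_det G _ hGd]
  refine even_rank_of_alternating _ fun v => ?_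
  set M := G * (L ^ i * (A - B)) with hM
  have hAd : (A - B)ᵀ * G = G * (B - A) := by
    rw [transpose_sub, Matrix.sub_mul, transpose_mul_of_preserved hAB hG,
      transpose_inv_mul_of_preserved hAB hG, Matrix.mul_sub]
  have hci : Commute (L ^ i) (B - A) := by
    rw [← neg_sub A B]; exact (hc.pow_left i).neg_right
  have hskew : Mᵀ = -M :=
    calc Mᵀ = (A - B)ᵀ * ((L ^ i)ᵀ * G) := by
          rw [hM, transpose_mul, transpose_mul, hsym, Matrix.mul_assoc]
      _ = ((A - B)ᵀ * G) * L ^ i := by
          rw [hL, lop_pow_adjoint hAB hG, Matrix.mul_assoc]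
      _ = G * ((B - A) * L ^ i) := by rw [hAd, Matrix.mul_assoc]
      _ = G * (L ^ i * (B - A)) := by rw [← hci.eq]
      _ = -M := by rw [hM, ← neg_sub A B, Matrix.mul_neg, Matrix.mul_neg]
  have h5 : v ⬝ᵥ (M *ᵥ v) = - (v ⬝ᵥ (M *ᵥ v)) := by
    conv_lhs => rw [dotProduct_mulVec, ← mulVec_transpose, hskew, neg_mulVec, neg_dotProduct,
      dotProduct_comm]
  have h6 : (2 : F) * (v ⬝ᵥ (M *ᵥ v)) = 0 := by linear_combination h5
  exact (mul_eq_zero.mp h6).resolve_left h2

/-! ### Regular unipotent matrices -/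

/-- A regular unipotent matrix is similar to one Jordan block. -/
theorem exists_regular_basis {j : ℕ} (e : Fin j ≃ ι) (A : Matrix ι ι F) (h0 : (A - 1) ^ j = 0)
    (h1 : 1 ≤ j → (A - 1) ^ (j - 1) ≠ 0) :
    ∃ (P : Matrix ι (Fin j) F) (Q : Matrix (Fin j) ι F),
      P * Cfsg.jordanBlock j F = A * P ∧ Q * P = 1 ∧ P * Q = 1 := by
  rcases Nat.eq_zero_or_pos j with hj | hj
  · subst hj
    have : IsEmpty ι := e.symm.isEmpty
    exact ⟨0, 0, Subsingleton.elim _ _, Subsingleton.elim _ _, Subsingleton.elim _ _⟩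
  set N := A - 1 with hN
  obtain ⟨i0, hcol⟩ : ∃ i, (N ^ (j - 1)) *ᵥ Pi.single i 1 ≠ 0 := by
    by_contra hc
    push Not at hc
    exact h1 hj (by ext a b; simpa [mulVec_single] using congrFun (hc b) a)
  set v : ι → F := Pi.single i0 1 with hv
  let u : Fin j → ι → F := fun a => (N ^ (a : ℕ)) *ᵥ v
  have hli : LinearIndependent F u := by
    rw [Fintype.linearIndependent_iff]
    intro c hc
    by_contra hne
    push Not at hne
    obtain ⟨a0, ha0⟩ := hne
    have hex : ∃ a : ℕ, ∃ h : a < j, c ⟨a, h⟩ ≠ 0 := ⟨a0, a0.2, ha0⟩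
    classical
    set a := Nat.find hex with ha
    obtain ⟨haj, hca⟩ := Nat.find_spec hex
    have h2 := congrArg (fun z => (N ^ (j - 1 - a)) *ᵥ z) hc
    simp only [mulVec_zero, mulVec_sum, mulVec_smul, u, mulVec_mulVec, ← pow_add] at h2
    rw [Finset.sum_eq_single (⟨a, haj⟩ : Fin j)] at h2
    · rw [show j - 1 - a + a = j - 1 by omega] at h2
      rcases smul_eq_zero.mp h2 with h | h
      · exact hca h
      · exact hcol h
    · intro b _ hb
      rcases lt_or_ge (b : ℕ) a with hlt | hge
      · have hb0 : c b = 0 := by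
          by_contra h
          exact Nat.find_min hex (ha ▸ hlt) ⟨b.2, h⟩
        rw [hb0, zero_smul]
      · have hne' : (b : ℕ) ≠ a := fun h => hb (Fin.ext h)
        rw [show j - 1 - a + (b : ℕ) = j + ((b : ℕ) - a - 1) by omega, pow_add, h0, Matrix.zero_mul,
          zero_mulVec, smul_zero]
    · simp
  set P : Matrix ι (Fin j) F := Matrix.of fun i a => u a i with hP
  let P' : Matrix (Fin j) (Fin j) F := P.submatrix e id
  have hP' : IsUnit P' := by
    rw [← linearIndependent_cols_iff_isUnit]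
    have : P'.col = fun a => (LinearEquiv.funCongrLeft F F e) (u a) := by
      funext a i
      rfl
    rw [this]
    exact hli.map' _ (LinearEquiv.funCongrLeft F F e).ker
  obtain ⟨Q', hQ'⟩ : ∃ Q', Q' * P' = 1 := hP'.exists_left_inv
  refine ⟨P, Q'.submatrix id e.symm, ?_, ?_, ?_⟩
  · have hA : A = 1 + N := by rw [hN]; abel
    have hJ : Cfsg.jordanBlock j F = 1 + shift j 1 F := by rw [← jordanBlock_sub_one]; abel
    rw [hA, hJ, Matrix.mul_add, Matrix.add_mul, Matrix.mul_one, Matrix.one_mul]
    congr 1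
    ext i a
    have hr : (N * P) i a = ((N ^ ((a : ℕ) + 1)) *ᵥ v) i := by
      rw [pow_succ', ← mulVec_mulVec]
      rfl
    rw [hr, mul_apply]
    by_cases ha : (a : ℕ) + 1 < j
    · rw [Finset.sum_eq_single (⟨(a : ℕ) + 1, ha⟩ : Fin j)]
      · simp [hP, u, shift]
      · intro b _ hb
        have : (b : ℕ) ≠ (a : ℕ) + 1 := fun h => hb (Fin.ext h)
        simp [shift, this]
      · simp
    · rw [Finset.sum_eq_zero, show (a : ℕ) + 1 = j by omega, h0, zero_mulVec]
      · rfl
      · intro b _
        have := b.2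
        simp [shift]
        omega
  · have : Q'.submatrix id e.symm * P = Q' * P' := by
      ext a b
      simp only [mul_apply, submatrix_apply, P', id]
      exact (Equiv.sum_comp e fun i => Q' a (e.symm i) * P i b).symm.trans (by simp)
    rw [this, hQ']
  · have h := mul_eq_one_comm.mp hQ'
    ext i k
    have := congrFun (congrFun h (e.symm i)) (e.symm k)
    simpa [mul_apply, submatrix_apply, P', one_apply] using this

end CfsgLib.JordanForms
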