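import Cfsg.Agent.Lib.JordanForms.Basic

/-!
Invariant forms for matrices of a given Jordan type: forms on single blocks and on pairs of blocks.
-/

set_option autoImplicit false

namespace CfsgLib.JordanForms

open Matrix

variable {F : Type*} [Field F]

theorem jordanBlock_sub_one_pow_self (j : ℕ) : (Cfsg.jordanBlock j F - 1) ^ j = 0 := by
  rw [jordanBlock_sub_one_pow, shift_eq_zero le_rfl]

theorem jordanBlock_sub_one_pow_pred {j : ℕ} (hj : 1 ≤ j) :
    (Cfsg.jordanBlock j F - 1) ^ (j - 1) ≠ 0 := by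
  intro h
  rw [jordanBlock_sub_one_pow] at h
  have := congrFun (congrFun h ⟨j - 1, by omega⟩) ⟨0, hj⟩
  simp [shift] at this

theorem jordanBlock_inv (j : ℕ) : ∃ B : Matrix (Fin j) (Fin j) F,
    Cfsg.jordanBlock j F * B = 1 ∧ B * Cfsg.jordanBlock j F = 1 := by
  have h : IsUnit (Cfsg.jordanBlock j F) := by
    have hn : IsNilpotent (Cfsg.jordanBlock j F - 1) := ⟨j, jordanBlock_sub_one_pow_self j⟩
    have := hn.isUnit_one_add
    rwa [add_sub_cancel] at this
  obtain ⟨u, hu⟩ := h
  exact ⟨(↑u⁻¹ : Matrix (Fin j) (Fin j) F), by rw [← hu, Units.mul_inv], by rw [← hu, Units.inv_mul]⟩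

/-- A non-degenerate bilinear form invariant under one block. -/
theorem exists_block_form (j : ℕ) : ∃ C : Matrix (Fin j) (Fin j) F,
    (Cfsg.jordanBlock j F)ᵀ * C * Cfsg.jordanBlock j F = C ∧ IsUnit C.det := by
  set J := Cfsg.jordanBlock j F with hJdef
  obtain ⟨B, hJB, hBJ⟩ := jordanBlock_inv (F := F) j
  have hc : Commute J B := hJB.trans hBJ.symm
  have e : Bᵀ - 1 = (-((J - 1) * B))ᵀ := by
    rw [Matrix.sub_mul, hJB, Matrix.one_mul, transpose_neg, transpose_sub, transpose_one, neg_sub]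
  have hp : ∀ k, (Bᵀ - 1) ^ k = ((-1 : F) ^ k • ((J - 1) ^ k * B ^ k))ᵀ := fun k => by
    rw [e, ← transpose_pow, ← neg_one_smul F ((J - 1) * B), smul_pow,
      (hc.sub_left (Commute.one_left B)).mul_pow]
  have h0 : (Bᵀ - 1) ^ j = 0 := by
    rw [hp, hJdef, jordanBlock_sub_one_pow_self]; simp
  have h1 : 1 ≤ j → (Bᵀ - 1) ^ (j - 1) ≠ 0 := fun hj h => by
    rw [hp, transpose_eq_zero, smul_eq_zero] at h
    have h' := h.resolve_left (pow_ne_zero _ (neg_ne_zero.mpr one_ne_zero))
    have h2 := congrArg (· * J ^ (j - 1)) h'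
    rw [Matrix.mul_assoc, ← hc.symm.mul_pow, hBJ, one_pow, Matrix.mul_one, Matrix.zero_mul] at h2
    exact jordanBlock_sub_one_pow_pred hj h2
  obtain ⟨P, Q, hPJ, hQP, hPQ⟩ := exists_regular_basis (Equiv.refl (Fin j)) Bᵀ h0 h1
  refine ⟨P, ?_, isUnit_det_left hPQ⟩
  rw [Matrix.mul_assoc, hPJ, ← Matrix.mul_assoc, ← transpose_mul, hBJ, transpose_one, Matrix.one_mul]

theorem fromBlocks_pow_upper {m : Type*} [Fintype m] [DecidableEq m] (N Z M : Matrix m m F) (k : ℕ) :
    (fromBlocks N Z 0 M) ^ k = fromBlocks (N ^ k)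
      (∑ a ∈ Finset.range k, N ^ a * Z * M ^ (k - 1 - a)) 0 (M ^ k) := by
  induction k with
  | zero => simp [fromBlocks_one]
  | succ k ih =>
    rw [pow_succ, ih, fromBlocks_multiply]
    simp only [Matrix.zero_mul, Matrix.mul_zero, add_zero, zero_add, ← pow_succ]
    congr 1
    rw [Finset.sum_range_succ, add_comm]
    congr 1
    · rw [Finset.sum_mul]
      refine Finset.sum_congr rfl fun a ha => ?_
      have := Finset.mem_range.mp ha
      rw [Matrix.mul_assoc, Matrix.mul_assoc, ← pow_succ, Matrix.mul_assoc,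
        show k - 1 - a + 1 = k + 1 - 1 - a by omega]
    · simp

/-- A regular unipotent element of the symplectic group. -/
theorem exists_regular_symplectic (i : ℕ) :
    ∃ g : Matrix (Fin (i + 1) ⊕ Fin (i + 1)) (Fin (i + 1) ⊕ Fin (i + 1)) F,
      gᵀ * Matrix.J (Fin (i + 1)) F * g = Matrix.J (Fin (i + 1)) F ∧
      (g - 1) ^ (2 * (i + 1)) = 0 ∧ (g - 1) ^ (2 * (i + 1) - 1) ≠ 0 := by
  set k := i + 1 with hk
  set A := Cfsg.jordanBlock k F with hA
  obtain ⟨B, hAB, hBA⟩ := jordanBlock_inv (F := F) k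
  have hc : Commute A B := hAB.trans hBA.symm
  let z : Fin k := ⟨0, by omega⟩
  set S : Matrix (Fin k) (Fin k) F := Matrix.single z z 1 with hS
  set N := A - 1 with hN
  set M := Bᵀ - 1 with hM
  have hMe : ∀ n, M ^ n = ((-1 : F) ^ n • (N ^ n * B ^ n))ᵀ := fun n => by
    have e : M = (-(N * B))ᵀ := by
      rw [hM, hN, Matrix.sub_mul, hAB, Matrix.one_mul, transpose_neg, transpose_sub, transpose_one,
        neg_sub]
    rw [e, ← transpose_pow, ← neg_one_smul F (N * B), smul_pow,
      (hc.sub_left (Commute.one_left B)).mul_pow]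
  have hN0 : ∀ n, k ≤ n → N ^ n = 0 := fun n hn => by
    rw [← Nat.add_sub_cancel' hn, pow_add, hN, hA, jordanBlock_sub_one_pow_self, Matrix.zero_mul]
  have hM0 : ∀ n, k ≤ n → M ^ n = 0 := fun n hn => by rw [hMe, hN0 n hn]; simp
  refine ⟨fromBlocks A (A * S) 0 Bᵀ, ?_, ?_, ?_⟩
  · have hSt : Sᵀ = S := by rw [hS, transpose_single]
    have hAt : Aᵀ * Bᵀ = 1 := by rw [← transpose_mul, hBA, transpose_one]
    rw [Matrix.J, fromBlocks_transpose, fromBlocks_multiply, fromBlocks_multiply]
    simp only [transpose_zero, transpose_transpose, Matrix.mul_zero, Matrix.zero_mul, add_zero,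
      zero_add, Matrix.mul_one, Matrix.mul_neg, Matrix.neg_mul, transpose_mul, hSt, neg_zero]
    congr 1
    · rw [hAt]
    · rw [Matrix.mul_assoc, hAt, Matrix.mul_one, ← Matrix.mul_assoc B A S, hBA, Matrix.one_mul,
        add_neg_cancel]
  all_goals
    rw [← fromBlocks_one (l := Fin k) (m := Fin k), sub_eq_add_neg, fromBlocks_neg, fromBlocks_add,
      neg_zero, add_zero, add_zero, ← sub_eq_add_neg, ← sub_eq_add_neg, ← hN, ← hM,
      fromBlocks_pow_upper]
  · rw [hN0 _ (by omega), hM0 _ (by omega), Finset.sum_eq_zero, fromBlocks_zero]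
    intro a _
    rcases le_or_gt k a with h | h
    · rw [hN0 a h, Matrix.zero_mul, Matrix.zero_mul]
    · rw [hM0 _ (by omega), Matrix.mul_zero]
  · intro h
    have h1 : ∑ a ∈ Finset.range (2 * k - 1), N ^ a * (A * S) * M ^ (2 * k - 1 - 1 - a) = 0 := by
      have := congrArg Matrix.toBlocks₁₂ h
      rwa [toBlocks_fromBlocks₁₂] at this
    rw [Finset.sum_eq_single i] at h1
    · rw [show 2 * k - 1 - 1 - i = i by omega, hMe] at h1
      have hNA : N ^ i * A = N ^ i := by
        rw [show A = 1 + N by rw [hN]; abel, Matrix.mul_add, Matrix.mul_one, ← pow_succ,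
          hN0 (i + 1) (by omega), add_zero]
      have hNB : N ^ i * B ^ i = N ^ i := by
        have h' : ∀ n, N ^ i * A ^ n = N ^ i := fun n => by
          induction n with
          | zero => simp
          | succ n ih => rw [pow_succ, ← Matrix.mul_assoc, ih, hNA]
        conv_lhs => rw [← h' i, Matrix.mul_assoc, ← hc.mul_pow, hAB, one_pow, Matrix.mul_one]
      rw [hNB, ← Matrix.mul_assoc, hNA, transpose_smul, Matrix.mul_smul, smul_eq_zero] at h1
      have h2 := h1.resolve_left (pow_ne_zero _ (neg_ne_zero.mpr one_ne_zero))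
      have h3 := congrFun (congrFun h2 ⟨i, by omega⟩) ⟨i, by omega⟩
      rw [hN, hA, jordanBlock_sub_one_pow] at h3
      have key : ∀ (X Y : Matrix (Fin k) (Fin k) F) (a b : Fin k), (X * S * Y) a b = X a z * Y z b := by
        intro X Y a b
        rw [mul_apply, Finset.sum_eq_single z, hS, mul_single_apply_same, mul_one]
        · intro c _ hc
          rw [hS, mul_single_apply_of_ne _ _ _ _ _ hc, zero_mul]
        · exact fun hh => absurd (Finset.mem_univ _) hh
      rw [key, transpose_apply, Matrix.zero_apply] at h3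
      simp [shift, z] at h3
    · intro a ha hne
      rcases le_or_gt k a with h | h
      · rw [hN0 a h, Matrix.zero_mul, Matrix.zero_mul]
      · rw [hM0 _ (by omega), Matrix.mul_zero]
    · intro hh
      exact absurd (Finset.mem_range.mpr (by omega)) hh

theorem quad_J {l : Type} [Fintype l] [DecidableEq l] (u : l ⊕ l → F) :
    u ⬝ᵥ (Matrix.J l F *ᵥ u) = 0 := by
  rw [dotProduct, Fintype.sum_sum_type, Matrix.J]
  simp only [fromBlocks_mulVec, Sum.elim_inl, Sum.elim_inr, zero_mulVec, zero_add, one_mulVec,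
    neg_mulVec, add_zero]
  rw [← Finset.sum_add_distrib]
  refine Finset.sum_eq_zero fun a _ => ?_
  simp only [Pi.neg_apply, Function.comp_apply]
  ring

/-- An alternating form on a block of even size. -/
theorem exists_block_alternating (j : ℕ) (hj : Even j) : ∃ S : Matrix (Fin j) (Fin j) F,
    (Cfsg.jordanBlock j F)ᵀ * S * Cfsg.jordanBlock j F = S ∧ IsUnit S.det ∧ Sᵀ = (-1 : F) • S ∧
      ∀ a, S a a = 0 := by
  obtain ⟨i, rfl⟩ := hj
  rcases i with _ | i
  · refine ⟨0, ?_, by simp, ?_, fun a => a.elim0⟩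
    · ext a; exact a.elim0
    · ext a; exact a.elim0
  obtain ⟨g, hg, h0, h1⟩ := exists_regular_symplectic (F := F) i
  have hcard : (i + 1) + (i + 1) = 2 * (i + 1) := by ring
  obtain ⟨P, Q, hPJ, hQP, hPQ⟩ := exists_regular_basis
    (finSumFinEquiv (m := i + 1) (n := i + 1)).symm g (by rw [hcard]; exact h0)
    (fun _ => by rw [hcard]; exact h1)
  refine ⟨Pᵀ * Matrix.J (Fin (i + 1)) F * P, ?_, ?_, ?_, ?_⟩
  · set Jb := Cfsg.jordanBlock (i + 1 + (i + 1)) F
    calc Jbᵀ * (Pᵀ * Matrix.J (Fin (i + 1)) F * P) * Jb =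
        (P * Jb)ᵀ * Matrix.J (Fin (i + 1)) F * (P * Jb) := by
          simp only [transpose_mul, Matrix.mul_assoc]
      _ = (g * P)ᵀ * Matrix.J (Fin (i + 1)) F * (g * P) := by rw [hPJ]
      _ = Pᵀ * (gᵀ * Matrix.J (Fin (i + 1)) F * g) * P := by
          simp only [transpose_mul, Matrix.mul_assoc]
      _ = _ := by rw [hg]
  · refine isUnit_det_left (B := Q * (-Matrix.J (Fin (i + 1)) F) * Qᵀ) ?_
    calc (Pᵀ * Matrix.J (Fin (i + 1)) F * P) * (Q * (-Matrix.J (Fin (i + 1)) F) * Qᵀ) =
        Pᵀ * Matrix.J (Fin (i + 1)) F * (P * Q) * (-Matrix.J (Fin (i + 1)) F) * Qᵀ := by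
          simp only [Matrix.mul_assoc]
      _ = Pᵀ * Qᵀ := by
          rw [hPQ, Matrix.mul_one, Matrix.mul_assoc Pᵀ, Matrix.mul_neg, Matrix.J_squared, neg_neg,
            Matrix.mul_one]
      _ = 1 := by rw [← transpose_mul, hQP, transpose_one]
  · rw [transpose_mul, transpose_mul, transpose_transpose, Matrix.J_transpose, neg_one_smul,
      Matrix.neg_mul, Matrix.mul_neg, Matrix.mul_assoc]
  · intro a
    have h := quad_J (P *ᵥ Pi.single a (1 : F))
    rw [← vecMul_transpose P, ← dotProduct_mulVec, mulVec_mulVec, vecMul_transpose,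
      mulVec_mulVec] at h
    simpa [mulVec_single, single_dotProduct] using h

/-- The antidiagonal sign matrix. -/
def antiSign (j : ℕ) (F : Type*) [Field F] : Matrix (Fin j) (Fin j) F :=
  Matrix.of fun a b => if (a : ℕ) + (b : ℕ) + 1 = j then (-1) ^ (a : ℕ) else 0

/-- A symmetric form on a block of odd size, in characteristic not two. -/
theorem exists_block_symmetric (h2 : (2 : F) ≠ 0) (j : ℕ) (hj : Odd j) :
    ∃ S : Matrix (Fin j) (Fin j) F,
      (Cfsg.jordanBlock j F)ᵀ * S * Cfsg.jordanBlock j F = S ∧ IsUnit S.det ∧ Sᵀ = (1 : F) • S := by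
  set K := antiSign j F with hK
  set N := shift j 1 F with hN
  have hKK : K * K = 1 := by
    ext a b
    rw [mul_apply, Finset.sum_eq_single (⟨j - 1 - a, by have := a.2; omega⟩ : Fin j)]
    · have := a.2; have := b.2
      rw [hK, antiSign, of_apply, of_apply, one_apply, if_pos (by simp; omega)]
      by_cases hab : a = b
      · subst hab
        rw [if_pos (by simp; omega), if_pos rfl, ← pow_add]
        refine Even.neg_one_pow ?_
        obtain ⟨c, hc⟩ := hj
        exact ⟨c, by simp; omega⟩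
      · rw [if_neg (fun h => hab (Fin.ext (by simp at h; omega))), if_neg hab, mul_zero]
    · intro c _ hc
      have hne : ¬ (a : ℕ) + (c : ℕ) + 1 = j := fun h => hc (Fin.ext (by simp; omega))
      simp [hK, antiSign, hne]
    · simp
  have hKt : Kᵀ = K := by
    ext a b
    simp only [transpose_apply, hK, antiSign, of_apply, add_comm (b : ℕ) a]
    split_ifs with h
    · refine neg_one_pow_congr ?_
      obtain ⟨c, hc⟩ := hj
      constructor <;> rintro ⟨e, he⟩
      · exact ⟨c - e, by omega⟩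
      · exact ⟨c - e, by omega⟩
    · rfl
  have hNK : Nᵀ * K = -(K * N) := by
    ext a b
    rw [Matrix.neg_apply, mul_apply, mul_apply]
    have := a.2; have := b.2
    by_cases h : (a : ℕ) + (b : ℕ) + 2 = j
    · rw [Finset.sum_eq_single (⟨(a : ℕ) + 1, by omega⟩ : Fin j),
        Finset.sum_eq_single (⟨(b : ℕ) + 1, by omega⟩ : Fin j)]
      · simp [hN, shift, hK, antiSign, show (a : ℕ) + 1 + (b : ℕ) + 1 = j by omega,
          show (a : ℕ) + ((b : ℕ) + 1) + 1 = j by omega, pow_succ]
      all_goals first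
        | (intro c _ hc
           have hne := Fin.val_ne_of_ne hc
           simp at hne
           simp [hN, shift, hK, antiSign]
           try omega)
        | simp
    · rw [Finset.sum_eq_zero, Finset.sum_eq_zero, neg_zero]
      all_goals
        intro c _
        simp [hN, shift, hK, antiSign]
        try omega
  have hN0 : N ^ j = 0 := by rw [hN, shift_one_pow, shift_eq_zero le_rfl]
  have hu : IsUnit (1 - N) := IsNilpotent.isUnit_one_sub ⟨j, hN0⟩
  obtain ⟨u, hu⟩ := hu
  set V : Matrix (Fin j) (Fin j) F := (↑u⁻¹ : Matrix (Fin j) (Fin j) F) with hV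
  have hUV : (1 - N) * V = 1 := by rw [← hu, hV, Units.mul_inv]
  have hVU : V * (1 - N) = 1 := by rw [← hu, hV, Units.inv_mul]
  have hcNV : Commute N V := by
    have h1 : Commute N (↑u : Matrix (Fin j) (Fin j) F) := by
      rw [hu]; exact (Commute.one_right N).sub_right (Commute.refl N)
    rw [hV]; exact h1.units_inv_right
  set g := (1 + N) * V with hg
  have hg1 : g - 1 = (2 : F) • (N * V) := by
    rw [hg]
    nth_rewrite 2 [← hUV]
    rw [← Matrix.sub_mul, ← Matrix.smul_mul, two_smul]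
    congr 1
    abel
  have hpow : ∀ n, (g - 1) ^ n = (2 : F) ^ n • (N ^ n * V ^ n) := fun n => by
    rw [hg1, smul_pow, hcNV.mul_pow]
  have hinv : gᵀ * K * g = K := by
    have hp : (1 + N)ᵀ * K = K * (1 - N) := by
      rw [transpose_add, transpose_one, Matrix.add_mul, Matrix.one_mul, hNK, Matrix.mul_sub,
        Matrix.mul_one, sub_eq_add_neg]
    have hm : (1 - N)ᵀ * K = K * (1 + N) := by
      rw [transpose_sub, transpose_one, Matrix.sub_mul, Matrix.one_mul, hNK, Matrix.mul_add,
        Matrix.mul_one, sub_neg_eq_add]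
    have hc1 : Commute (1 - N) (1 + N) :=
      ((Commute.one_right _).add_right ((Commute.one_left N).sub_left (Commute.refl N)))
    calc gᵀ * K * g = Vᵀ * ((1 + N)ᵀ * K) * ((1 + N) * V) := by
          rw [hg, transpose_mul]; simp only [Matrix.mul_assoc]
      _ = Vᵀ * K * ((1 - N) * (1 + N)) * V := by rw [hp]; simp only [Matrix.mul_assoc]
      _ = Vᵀ * (K * (1 + N)) * ((1 - N) * V) := by rw [hc1.eq]; simp only [Matrix.mul_assoc]
      _ = K := by
          rw [hUV, Matrix.mul_one, ← hm, ← Matrix.mul_assoc, ← transpose_mul, hUV, transpose_one,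
            Matrix.one_mul]
  have h0 : (g - 1) ^ j = 0 := by rw [hpow, hN0, Matrix.zero_mul, smul_zero]
  have h1 : 1 ≤ j → (g - 1) ^ (j - 1) ≠ 0 := fun hj1 h => by
    rw [hpow, smul_eq_zero] at h
    have h' := congrArg (· * (1 - N) ^ (j - 1)) (h.resolve_left (pow_ne_zero _ h2))
    have hc : Commute V (1 - N) := hVU.trans hUV.symm
    simp only [Matrix.mul_assoc, ← hc.mul_pow, hVU, one_pow, Matrix.mul_one, Matrix.zero_mul] at h'
    exact jordanBlock_sub_one_pow_pred (F := F) hj1 (by rw [jordanBlock_sub_one]; exact h')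
  obtain ⟨P, Q, hPJ, hQP, hPQ⟩ := exists_regular_basis (Equiv.refl (Fin j)) g h0 h1
  refine ⟨Pᵀ * K * P, ?_, ?_, ?_⟩
  · calc (Cfsg.jordanBlock _ F)ᵀ * (Pᵀ * K * P) * Cfsg.jordanBlock _ F =
        (P * Cfsg.jordanBlock _ F)ᵀ * K * (P * Cfsg.jordanBlock _ F) := by
          simp only [transpose_mul, Matrix.mul_assoc]
      _ = (g * P)ᵀ * K * (g * P) := by rw [hPJ]
      _ = Pᵀ * (gᵀ * K * g) * P := by simp only [transpose_mul, Matrix.mul_assoc]
      _ = _ := by rw [hinv]
  · rw [det_mul, det_mul, det_transpose]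
    exact ((isUnit_det_left hPQ).mul (isUnit_det_left hKK)).mul (isUnit_det_left hPQ)
  · rw [one_smul, transpose_mul, transpose_mul, transpose_transpose, hKt, Matrix.mul_assoc]

/-! ### Assembling -/

theorem exists_pairing {t : ℕ} (d : Fin t → ℕ) (Good : ℕ → Prop)
    (h : ∀ j, ¬ Good j → Even (Finset.univ.filter fun k => d k = j).card) :
    ∃ π : Fin t → Fin t, Function.Involutive π ∧ (∀ k, d (π k) = d k) ∧
      ∀ k, π k = k → Good (d k) := by
  classical
  have hex : ∀ j, ∃ φ : {k // d k = j} → {k // d k = j}, Function.Involutive φ ∧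
      (∀ x, φ x = x → Good j) := fun j => by
    by_cases hg : Good j
    · exact ⟨id, fun _ => rfl, fun _ _ => hg⟩
    obtain ⟨n, hn⟩ := h j hg
    have hc : Fintype.card {k // d k = j} = Fintype.card (Fin n ⊕ Fin n) := by
      rw [Fintype.card_subtype, hn]; simp
    let τ := Fintype.equivOfCardEq hc
    refine ⟨fun x => τ.symm (Sum.swap (τ x)), fun x => by simp, fun x hx => ?_⟩
    exfalso
    have := congrArg τ hx
    rw [τ.apply_symm_apply] at this
    cases hτ : τ x <;> rw [hτ] at this <;> simp at this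
  choose φ hφ hfix using hex
  have key : ∀ j (x : {k // d k = j}), (φ (d x.1) ⟨x.1, rfl⟩).1 = (φ j x).1 := by
    rintro j ⟨x, rfl⟩; rfl
  refine ⟨fun k => (φ (d k) ⟨k, rfl⟩).1, fun k => ?_, fun k => (φ (d k) ⟨k, rfl⟩).2, fun k hk => ?_⟩
  · show (φ (d (φ (d k) ⟨k, rfl⟩).1) ⟨(φ (d k) ⟨k, rfl⟩).1, rfl⟩).1 = k
    rw [key (d k) (φ (d k) ⟨k, rfl⟩), hφ]
  · exact hfix _ _ (Subtype.ext hk)

/-- A function on `ℕ` extending a family of matrices. -/
def natEntry (C : (j : ℕ) → Matrix (Fin j) (Fin j) F) (j a b : ℕ) : F :=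
  if h : a < j ∧ b < j then C j ⟨a, h.1⟩ ⟨b, h.2⟩ else 0

theorem natEntry_apply (C : (j : ℕ) → Matrix (Fin j) (Fin j) F) (j : ℕ) (a b : Fin j) :
    natEntry C j a b = C j a b := dif_pos ⟨a.2, b.2⟩

variable {t : ℕ}

/-- The form on all blocks. -/
theorem exists_form (d : Fin t → ℕ) (Good : ℕ → Prop)
    (h : ∀ j, ¬ Good j → Even (Finset.univ.filter fun k => d k = j).card) (ε : F) (hε : ε * ε = 1)
    (C S : (j : ℕ) → Matrix (Fin j) (Fin j) F)
    (hC : ∀ j, (Cfsg.jordanBlock j F)ᵀ * C j * Cfsg.jordanBlock j F = C j ∧ IsUnit (C j).det)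
    (hS : ∀ j, Good j → (Cfsg.jordanBlock j F)ᵀ * S j * Cfsg.jordanBlock j F = S j ∧
      IsUnit (S j).det ∧ (S j)ᵀ = ε • S j) :
    ∃ B : Matrix (Idx d) (Idx d) F,
      (Cfsg.jordanTypeMatrix d F)ᵀ * B * Cfsg.jordanTypeMatrix d F = B ∧ IsUnit B.det ∧
        Bᵀ = ε • B ∧ ((∀ j, Good j → ∀ a, S j a a = 0) → ∀ x, B x x = 0) := by
  classical
  obtain ⟨π, hπ, hπd, hfix⟩ := exists_pairing d Good h
  let dn : Fin t → ℕ → ℕ → F := fun k a b =>
    if π k = k then natEntry S (d k) a b
    else if k < π k then natEntry C (d k) a b else ε * natEntry C (d k) b a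
  let D : (k : Fin t) → Matrix (Fin (d k)) (Fin (d k)) F := fun k => Matrix.of fun a b => dn k a b
  have hD : ∀ k, (Cfsg.jordanBlock (d k) F)ᵀ * D k * Cfsg.jordanBlock (d k) F = D k ∧
      IsUnit (D k).det := fun k => by
    by_cases h1 : π k = k
    · have e : D k = S (d k) := by ext a b; simp [D, dn, h1, natEntry_apply]
      rw [e]; exact ⟨(hS _ (hfix k h1)).1, (hS _ (hfix k h1)).2.1⟩
    by_cases h2 : k < π k
    · have e : D k = C (d k) := by ext a b; simp [D, dn, h1, h2, natEntry_apply]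
      rw [e]; exact hC _
    · have e : D k = ε • (C (d k))ᵀ := by ext a b; simp [D, dn, h1, h2, natEntry_apply]
      have hεu : IsUnit ε := IsUnit.of_mul_eq_one ε hε
      constructor
      · rw [e, Matrix.mul_smul, Matrix.smul_mul]
        congr 1
        have := congrArg Matrix.transpose (hC (d k)).1
        simpa [transpose_mul, Matrix.mul_assoc] using this
      · rw [e, det_smul, det_transpose]; exact (hεu.pow _).mul (hC _).2
  let τf : Idx d → Idx d := fun x => ⟨π x.1, Fin.cast (hπd x.1).symm x.2⟩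
  have hτ : Function.Involutive τf := fun x => by
    refine Sigma.ext (hπ x.1) ?_
    rw [Fin.heq_ext_iff (congrArg d (hπ x.1))]
    rfl
  let τ : Equiv.Perm (Idx d) := hτ.toPerm τf
  set J := Cfsg.jordanTypeMatrix d F with hJ
  set BD := blockDiagonal' D with hBD
  have hJτ : J.submatrix τ τ = J := by
    ext ⟨k, a⟩ ⟨l, b⟩
    simp only [submatrix_apply, hJ, Cfsg.jordanTypeMatrix, τ, Function.Involutive.coe_toPerm, τf,
      blockDiagonal'_apply]
    by_cases hkl : k = l
    · subst hkl
      simp [Cfsg.jordanBlock]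
    · rw [dif_neg hkl, dif_neg fun e => hkl (hπ.injective e)]
  have hBe : ∀ x y : Idx d, BD.submatrix id τ x y =
      if x.1 = π y.1 then dn x.1 x.2 y.2 else 0 := by
    rintro ⟨k, a⟩ ⟨l, b⟩
    simp only [submatrix_apply, id, τ, Function.Involutive.coe_toPerm, τf, hBD, blockDiagonal'_apply]
    by_cases hkl : k = π l
    · subst hkl
      simp [D]
    · rw [dif_neg hkl, if_neg hkl]
  refine ⟨BD.submatrix id τ, ?_, ?_, ?_, ?_⟩
  · have e1 : Jᵀ * BD * J = BD := by
      rw [hJ, Cfsg.jordanTypeMatrix, hBD, blockDiagonal'_transpose, ← blockDiagonal'_mul,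
        ← blockDiagonal'_mul]
      congr 1
      funext k
      exact (hD k).1
    calc Jᵀ * BD.submatrix id τ * J = (Jᵀ * BD).submatrix id τ * J.submatrix τ τ := by
          rw [hJτ]; congr 1
      _ = (Jᵀ * BD * J).submatrix id τ := submatrix_mul_equiv _ _ _ τ _
      _ = _ := by rw [e1]
  · rw [det_permute']
    refine IsUnit.mul ((Units.isUnit _).map (Int.castRingHom F)) ?_
    have hinv : BD * blockDiagonal' (fun k => (D k)⁻¹) = 1 := by
      rw [hBD, ← blockDiagonal'_mul, ← blockDiagonal'_one]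
      congr 1
      funext k
      exact mul_nonsing_inv _ (hD k).2
    exact isUnit_det_left hinv
  · ext x y
    rw [transpose_apply, Matrix.smul_apply, hBe, hBe, smul_eq_mul]
    obtain ⟨k, a⟩ := x
    obtain ⟨l, b⟩ := y
    show (if l = π k then dn l b a else 0) = ε * (if k = π l then dn k a b else 0)
    by_cases hkl : k = π l
    · have hlk : l = π k := by rw [hkl, hπ]
      rw [if_pos hlk, if_pos hkl]
      have hdl : d l = d k := by rw [hlk, hπd]
      simp only [dn, hdl]
      by_cases h1 : π k = k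
      · have h1' : π l = l := by rw [← hkl, hlk, h1]
        rw [if_pos h1, if_pos h1']
        have hb : (b : ℕ) < d k := hdl ▸ b.2
        have e := congrFun (congrFun (hS _ (hfix k h1)).2.2 a) ⟨b, hb⟩
        rw [transpose_apply, Matrix.smul_apply, smul_eq_mul, ← natEntry_apply S, ← natEntry_apply S] at e
        exact e
      · have h1' : ¬ π l = l := fun h' => h1 (by rw [← hlk, hkl, h'])
        rw [if_neg h1, if_neg h1', ← hkl, ← hlk]
        rcases lt_trichotomy k l with h3 | h3 | h3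
        · rw [if_pos h3, if_neg (not_lt.mpr h3.le)]
        · exact absurd (h3.trans hlk).symm h1
        · rw [if_neg (not_lt.mpr h3.le), if_pos h3, ← mul_assoc, hε, one_mul]
    · rw [if_neg hkl, if_neg fun h' => hkl (by rw [h', hπ]), mul_zero]
  · intro hdiag x
    rw [hBe]
    split_ifs with hx
    · simp only [dn, if_pos hx.symm, natEntry_apply]
      exact hdiag _ (hfix _ hx.symm) _
    · rfl

end CfsgLib.JordanForms
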